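import Groth.Prelude.Def_Koszul
import Groth.Prelude.Def_DRing2
import Groth.Prelude.Def_DTen
import Mathlib.Algebra.Homology.BifunctorHomotopy
import Mathlib.Algebra.Homology.Monoidal
import Mathlib.Algebra.Homology.HomotopyCofiber

set_option backward.isDefEq.respectTransparency false
set_option maxHeartbeats 1000000

universe u

open CategoryTheory Limits MonoidalCategory HomologicalComplex

namespace H1KoszT

variable {A : Type u} [CommRing A]

abbrev CxA (A : Type u) [CommRing A] := CochainComplex (ModuleCat.{u} A) ℤ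

abbrev cTA (A : Type u) [CommRing A] := curriedTensor (ModuleCat.{u} A)

local notation "up" => ComplexShape.up ℤ

variable {K M : (CxA A)} (φ : K ⟶ M) (L : (CxA A))

lemma whisker_comp {P Q R : (CxA A)} (f : P ⟶ Q) (g : Q ⟶ R) :
    HomologicalComplex.tensorHom (f ≫ g) (𝟙 L) = HomologicalComplex.tensorHom f (𝟙 L) ≫ HomologicalComplex.tensorHom g (𝟙 L) := by
  refine HomologicalComplex.hom_ext _ _ fun j => ?_
  apply mapBifunctor.hom_ext
  intro i₁ i₂ h
  simp [ι_mapBifunctorMap, ι_mapBifunctorMap_assoc]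

lemma whisker_zero {P Q : (CxA A)} : HomologicalComplex.tensorHom (0 : P ⟶ Q) (𝟙 L) = 0 := by
  refine HomologicalComplex.hom_ext _ _ fun j => ?_
  apply mapBifunctor.hom_ext
  intro i₁ i₂ h
  simp [ι_mapBifunctorMap]

lemma hc : ∀ j : ℤ, ∃ i, (up).Rel i j := fun j => ⟨j - 1, by simp⟩

noncomputable def coneHomotopy :
    Homotopy (HomologicalComplex.tensorHom φ (𝟙 L) ≫ HomologicalComplex.tensorHom (homotopyCofiber.inr φ) (𝟙 L)) 0 :=
  (Homotopy.ofEq (whisker_comp L φ _).symm).trans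
    ((mapBifunctorMapHomotopy₁ (homotopyCofiber.inrCompHomotopy φ (fun j => hc j)) (𝟙 L) (cTA A) up).trans
      (Homotopy.ofEq (whisker_zero L)))

/-- forward map `Cone (φ ⊗ L) ⟶ Cone φ ⊗ L` -/
noncomputable def fwd :
    homotopyCofiber (HomologicalComplex.tensorHom φ (𝟙 L)) ⟶ HomologicalComplex.tensorObj (homotopyCofiber φ) L :=
  homotopyCofiber.desc _ (HomologicalComplex.tensorHom (homotopyCofiber.inr φ) (𝟙 L)) (coneHomotopy φ L)

lemma π_eq (i j : ℤ) : ComplexShape.π up up up (i, j) = i + j := rfl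

lemma inl_fwd (p q n m : ℤ) (hp : q + 1 = p) (h : p + m = n + 1) :
    ιTensorObj K L p m (n + 1) h ≫
      homotopyCofiber.inlX (HomologicalComplex.tensorHom φ (𝟙 L)) (n + 1) n rfl ≫ (fwd φ L).f n =
    (homotopyCofiber.inlX φ p q hp ▷ L.X m) ≫
      ιTensorObj (homotopyCofiber φ) L q m n (by omega) := by
  rw [fwd, homotopyCofiber.inlX_desc_f]
  simp only [coneHomotopy, Homotopy.trans_hom, Homotopy.ofEq_hom, Pi.add_apply, Pi.zero_apply,
    add_zero, zero_add]
  show ιMapBifunctor K L (cTA A) up p m (n+1) h ≫ mapBifunctorMapHomotopy.hom₁ _ _ _ _ (n + 1) n = _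
  rw [mapBifunctorMapHomotopy.ιMapBifunctor_hom₁ _ _ _ _ q p m (n+1) n h
    (by rw [ComplexShape.prev_eq' (up) (show (up).Rel q p from hp)])]
  rw [homotopyCofiber.inrCompHomotopy_hom φ _ p q hp]
  rw [ιMapBifunctorOrZero_eq _ _ _ _ _ _ _ (by rw [π_eq]; omega)]
  simp

lemma inr_fwd (p n m : ℤ) (h : p + m = n) :
    ιTensorObj M L p m n h ≫
      homotopyCofiber.inrX (HomologicalComplex.tensorHom φ (𝟙 L)) n ≫ (fwd φ L).f n =
    (homotopyCofiber.inrX φ p ▷ L.X m) ≫ ιTensorObj (homotopyCofiber φ) L p m n h := by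
  rw [fwd, homotopyCofiber.inrX_desc_f]
  simp

/-- degreewise inverse -/
noncomputable def bwd (n : ℤ) :
    (HomologicalComplex.tensorObj (homotopyCofiber φ) L).X n ⟶ (homotopyCofiber (HomologicalComplex.tensorHom φ (𝟙 L))).X n :=
  mapBifunctorDesc fun p m h =>
    (homotopyCofiber.fstX φ p (p+1) rfl ▷ L.X m) ≫
      ιTensorObj K L (p+1) m (n+1) (by simp [π_eq] at h; omega) ≫
        homotopyCofiber.inlX (HomologicalComplex.tensorHom φ (𝟙 L)) (n + 1) n rfl +
    (homotopyCofiber.sndX φ p ▷ L.X m) ≫ ιTensorObj M L p m n h ≫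
        homotopyCofiber.inrX (HomologicalComplex.tensorHom φ (𝟙 L)) n

lemma fwd_bwd (n : ℤ) : (fwd φ L).f n ≫ bwd φ L n = 𝟙 _ := by
  apply homotopyCofiber.ext_from_X _ (n+1) n rfl
  · apply mapBifunctor.hom_ext
    intro p m h
    simp only [π_eq] at h
    have h' : (p - 1) + 1 = p := by omega
    rw [← Category.assoc, ← Category.assoc, Category.assoc (ιMapBifunctor _ _ _ _ _ _ _ _)]
    erw [inl_fwd φ L p (p-1) n m h' h]
    rw [Category.assoc, bwd]
    erw [ι_mapBifunctorDesc]
    have e : ∀ (q : ℤ) (e : q = p) (hq : q + m = n + 1),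
        (eqToHom (by rw [e]) : K.X p ⊗ L.X m ⟶ K.X q ⊗ L.X m) ≫ ιTensorObj K L q m (n+1) hq =
          ιTensorObj K L p m (n+1) h := by
      rintro q rfl hq; simp
    rw [Preadditive.comp_add, ← comp_whiskerRight_assoc, ← comp_whiskerRight_assoc,
      homotopyCofiber.inlX_sndX]
    simp only [MonoidalPreadditive.zero_whiskerRight, zero_comp, add_zero, Category.comp_id]
    obtain ⟨k, rfl⟩ : ∃ k, p = k + 1 := ⟨p - 1, by omega⟩
    generalize hq : k + 1 - 1 = q at h' ⊢
    obtain rfl : q = k := by omega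
    rw [homotopyCofiber.inlX_fstX]
    simp
  · apply mapBifunctor.hom_ext
    intro p m h
    rw [← Category.assoc, ← Category.assoc, Category.assoc (ιMapBifunctor _ _ _ _ _ _ _ _)]
    erw [inr_fwd φ L p n m h]
    rw [Category.assoc, bwd]
    erw [ι_mapBifunctorDesc]
    rw [Preadditive.comp_add, ← comp_whiskerRight_assoc, ← comp_whiskerRight_assoc,
      homotopyCofiber.inrX_sndX, homotopyCofiber.inrX_fstX]
    simp

lemma bwd_fwd (n : ℤ) : bwd φ L n ≫ (fwd φ L).f n = 𝟙 _ := by
  apply mapBifunctor.hom_ext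
  intro p m h
  rw [bwd, ι_mapBifunctorDesc_assoc, Category.comp_id]
  simp only [Preadditive.add_comp, Category.assoc]
  rw [inl_fwd φ L (p+1) p n m rfl, inr_fwd φ L p n m h]
  rw [← comp_whiskerRight_assoc, ← comp_whiskerRight_assoc, ← Preadditive.add_comp,
    ← MonoidalPreadditive.add_whiskerRight]
  have : homotopyCofiber.fstX φ p (p + 1) rfl ≫ homotopyCofiber.inlX φ (p + 1) p rfl +
      homotopyCofiber.sndX φ p ≫ homotopyCofiber.inrX φ p = 𝟙 _ := by
    apply homotopyCofiber.ext_from_X φ (p+1) p rfl <;> simp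
  rw [this]; simp

instance : IsIso (fwd φ L) := by
  have : ∀ n, IsIso ((fwd φ L).f n) := fun n => ⟨bwd φ L n, fwd_bwd φ L n, bwd_fwd φ L n⟩
  exact HomologicalComplex.Hom.isIso_of_components _

/-- `Cone φ ⊗ L ≅ Cone (φ ⊗ L)` -/
noncomputable def coneTensorIso :
    HomologicalComplex.tensorObj (homotopyCofiber φ) L ≅ homotopyCofiber (HomologicalComplex.tensorHom φ (𝟙 L)) :=
  (asIso (fwd φ L)).symm

lemma smul_whisker (a : A) (P : (CxA A)) :
    HomologicalComplex.tensorHom (a • 𝟙 P) (𝟙 L) = a • 𝟙 (HomologicalComplex.tensorObj P L) := by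
  refine HomologicalComplex.hom_ext _ _ fun j => ?_
  apply mapBifunctor.hom_ext
  intro i₁ i₂ h
  simp [ι_mapBifunctorMap]

/-- cone of `a` depends only on the iso class -/
noncomputable def coneSmulCongr {P Q : (CxA A)} (e : P ≅ Q) (a : A) :
    CochainComplex.mappingCone (a • 𝟙 P) ≅ CochainComplex.mappingCone (a • 𝟙 Q) where
  hom := CochainComplex.mappingCone.map _ _ e.hom e.hom (by simp)
  inv := CochainComplex.mappingCone.map _ _ e.inv e.inv (by simp)
  hom_inv_id := by simp [← CochainComplex.mappingCone.map_comp, CochainComplex.mappingCone.map_id]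
  inv_hom_id := by simp [← CochainComplex.mappingCone.map_comp, CochainComplex.mappingCone.map_id]

theorem koszul_tensor (f g : List A) :
    Nonempty ((MonoidalCategoryStruct.tensorObj (C := DRing.Cx A) (Koszul.koszul A f) (Koszul.koszul A g)) ≅
      Koszul.koszul A (f ++ g)) := by
  induction f with
  | nil => exact ⟨MonoidalCategoryStruct.leftUnitor (C := DRing.Cx A) (Koszul.koszul A g)⟩
  | cons a f ih =>
    obtain ⟨e⟩ := ih
    exact ⟨coneTensorIso (a • 𝟙 (Koszul.koszul A f)) (Koszul.koszul A g) ≪≫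
      (eqToIso (congrArg (fun ψ => CochainComplex.mappingCone ψ) (smul_whisker _ a _))) ≪≫ coneSmulCongr e a⟩

end H1KoszT
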